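import Groth.Agent.LimSmooth.Scheme
import Groth.Agent.Synt15.SyntAt
import Groth.Agent.Synt15.Bridge
import Groth.Agent.CAlgH.CIMorphism
import Groth.Agent.Synt15.SpecFibre
import Groth.Agent.CAlgH.CIOpen
import Groth.Agent.H8Lim.FlatDescent

/-!
# Syntomic morphisms spread out along affine limits
-/

set_option autoImplicit false
set_option linter.style.haveILetI false
set_option backward.isDefEq.respectTransparency.types false
universe u

open CategoryTheory Limits AlgebraicGeometry TensorProduct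

namespace Groth.Agent.LimSynt8

/-- Complete intersection morphisms, as a property. -/
def ciProp : MorphismProperty Scheme.{u} := fun _ _ f => CInt.IsCIMorphism f

theorem ci_fiberStalk_openImmersion {U X S : Scheme.{u}} (ι : U ⟶ X) [IsOpenImmersion ι] (f : X ⟶ S)
    [LocallyOfFiniteType f] (z : U) :
    Pi1.IsCompleteIntersection (CInt.fiberStalk (ι ≫ f) z) ↔
      Pi1.IsCompleteIntersection (CInt.fiberStalk f (ι z)) := by
  obtain ⟨e₁⟩ := CAlgH.CIScheme.fiberStalk_equiv (ι ≫ f) z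
  obtain ⟨e₂⟩ := CAlgH.CIScheme.fiberStalk_equiv f (ι z)
  haveI := CAlgH.CIScheme.isNoetherianRing_fiberStalk f (ι z)
  haveI := CAlgH.CIScheme.isNoetherianRing_fiberStalk (ι ≫ f) z
  let ε := (asIso (ι.stalkMap z)).commRingCatIsoToRingEquiv
  refine CAlgH.AvramovCI.isCompleteIntersection_iff_of_equiv
    (e₁.symm.trans ((Ideal.quotientEquiv _ _ ε.symm ?_).trans e₂))
  rw [Scheme.Hom.stalkMap_comp]
  show _ = Ideal.map _ (Ideal.map ((ι.stalkMap z).hom.comp (f.stalkMap (ι z)).hom) _)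
  rw [Ideal.map_map]
  refine congrArg (fun φ : _ →+* _ => Ideal.map φ _) (RingHom.ext fun r => ?_)
  exact (ε.symm_apply_apply _).symm

instance : ciProp.{u}.IsStableUnderBaseChange :=
  haveI : ciProp.{u}.RespectsIso := MorphismProperty.RespectsIso.mk _
    (fun e g hg => CAlgH.CIMorphism.isCIMorphism_comp e.hom g (Synt15.isCIMorphism_of_isOpenImmersion e.hom) hg)
    (fun e g hg => CAlgH.CIMorphism.isCIMorphism_comp g e.hom hg (Synt15.isCIMorphism_of_isOpenImmersion e.hom))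
  MorphismProperty.IsStableUnderBaseChange.mk' fun X Y S f g _ hg => by
    rw [← pullbackSymmetry_hom_comp_snd f g]
    exact (ciProp.cancel_left_of_respectsIso _ _).2 (CAlgH.CIMorphism.isCIMorphism_baseChange g f hg)

instance : ciProp.{u}.IsStableUnderComposition :=
  ⟨fun f g hf hg => CAlgH.CIMorphism.isCIMorphism_comp f g hf hg⟩

instance : IsZariskiLocalAtSource ciProp.{u} :=
  haveI := MorphismProperty.IsStableUnderBaseChange.respectsIso (P := ciProp.{u})
  IsZariskiLocalAtSource.mk' (fun f U hf =>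
      CAlgH.CIMorphism.isCIMorphism_comp U.ι f (Synt15.isCIMorphism_of_isOpenImmersion _) hf)
    fun {X Y} f {ι} U hU h => by
      have h1 : Flat f := IsZariskiLocalAtSource.of_iSup_eq_top U hU fun i => (h i).1
      have h2 : LocallyOfFinitePresentation f := IsZariskiLocalAtSource.of_iSup_eq_top U hU fun i => (h i).2.1
      refine ⟨h1, h2, fun x => ?_⟩
      obtain ⟨i, hi⟩ := TopologicalSpace.Opens.mem_iSup.1 (hU.ge (TopologicalSpace.Opens.mem_top x))
      exact (ci_fiberStalk_openImmersion (U i).ι f ⟨x, hi⟩).1 ((h i).2.2 ⟨x, hi⟩)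

/-- Complete intersection morphisms between affine schemes. -/
theorem ci_iff_appTop {X S : Scheme.{u}} [IsAffine X] [IsAffine S] (f : X ⟶ S) :
    CInt.IsCIMorphism f ↔ (letI := f.appTop.hom.toAlgebra; Synt.IsSyntomic Γ(S, ⊤) Γ(X, ⊤)) := by
  have he : f.appLE ⊤ ⊤ le_top = f.appTop := by simp [Scheme.Hom.appLE, Scheme.Hom.appTop]
  constructor
  · intro h
    rw [← he]
    exact Synt15.isSyntomic_appLE f h ⟨⊤, isAffineOpen_top _⟩ ⟨⊤, isAffineOpen_top _⟩ le_top
  · intro h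
    refine (Synt15.isSyntomicMor_iff f).1 fun x => ⟨⟨⊤, isAffineOpen_top _⟩, ⟨⊤, isAffineOpen_top _⟩, le_top, trivial, ?_⟩
    rw [← he] at h
    exact h

section Ring

variable {R : Type u} [CommRing R] {ι : Type u} {G : ι → Type u} [∀ i, CommRing (G i)] [∀ i, Algebra R (G i)]
  {A : Type u} [CommRing A] [Algebra R A] {g : ∀ i, G i →ₐ[R] A}

/-- Syntomic algebras descend along colimits (as in S9423, over a colimit system of `R`-algebras). -/
theorem exists_syntomic_stage (hs : CAlgH.ColimSys g) (C₀ : Type u) [CommRing C₀] [Algebra R C₀]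
    [Algebra.FinitePresentation R C₀] (h : Synt.IsSyntomic A (A ⊗[R] C₀)) :
    ∃ l, Synt.IsSyntomic (G l) (G l ⊗[R] C₀) := by
  classical
  haveI := h.1
  obtain ⟨j, hj⟩ := H8Lim.exists_flat_stage hs (B₀ := C₀)
  haveI hloc : ∀ (q : Ideal ((G j) ⊗[R] C₀)) [q.IsPrime],
      IsLocalRing (EGA4.FibLocRing (G j) ((G j) ⊗[R] C₀) q) :=
    fun q _ => CommAlg6.isLocalRing_fibLocRing q
  let T : Set ((G j) ⊗[R] C₀) := {a | ∀ (q : Ideal ((G j) ⊗[R] C₀)) [q.IsPrime], a ∉ q →
    Pi1.IsCompleteIntersection (EGA4.FibLocRing (G j) ((G j) ⊗[R] C₀) q)}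
  let φ := Algebra.TensorProduct.map (g j) (AlgHom.id R C₀)
  have htop : Ideal.span (φ '' T) = ⊤ := by
    by_contra hne
    obtain ⟨M, hM, hle⟩ := Ideal.exists_le_maximal _ hne
    obtain ⟨a, ha, hall⟩ := CAlgH.CIOpen.exists_notMem_forall_ci
      (R := G j) (A := (G j) ⊗[R] C₀) (M.comap φ.toRingHom)
      ((Synt15.ci_fibLocRing_tensor (g j) M).1 (Synt15.ci_fibre_of_isSyntomic h M))
    exact ha (hle (Ideal.subset_span ⟨a, hall, rfl⟩))
  obtain ⟨c, hc⟩ := Finsupp.mem_span_iff_linearCombination _ _ _ |>.1 ((Ideal.eq_top_iff_one _).1 htop)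
  have hc' : ∑ x ∈ c.support, c x * (x : A ⊗[R] C₀) = 1 := by
    rw [← hc, Finsupp.linearCombination_apply, Finsupp.sum]
    rfl
  choose t ht htφ using fun x : c.support => x.1.2
  obtain ⟨i, ⟨y, hy⟩⟩ : ∃ i, ∃ y : c.support → (G i) ⊗[R] C₀,
      ∀ x, Algebra.TensorProduct.map (g i) (AlgHom.id R C₀) (y x) = c x.1 := by
    suffices H : ∀ s : Finset c.support, ∃ i, ∃ y : c.support → (G i) ⊗[R] C₀,
        ∀ x ∈ s, Algebra.TensorProduct.map (g i) (AlgHom.id R C₀) (y x) = c x.1 by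
      obtain ⟨i, y, hy⟩ := H Finset.univ
      exact ⟨i, y, fun x => hy x (Finset.mem_univ x)⟩
    intro s
    induction s using Finset.induction with
    | empty => exact ⟨j, 0, by simp⟩
    | insert b s _ ih =>
      obtain ⟨i, y, hy⟩ := ih
      obtain ⟨i', z, hz⟩ := hs.rTensor_surj C₀ (c b.1)
      obtain ⟨k, ⟨hi⟩, ⟨hi'⟩⟩ := hs.dir i i'
      refine ⟨k, fun x => if x = b then Algebra.TensorProduct.map hi'.1 (AlgHom.id R C₀) z
        else Algebra.TensorProduct.map hi.1 (AlgHom.id R C₀) (y x), fun x hx => ?_⟩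
      by_cases hxb : x = b
      · subst hxb
        simp only [↓reduceIte]
        rw [← AlgHom.comp_apply, ← Algebra.TensorProduct.map_comp, hi'.2, AlgHom.id_comp]
        exact hz
      · simp only [hxb, ↓reduceIte]
        rw [← AlgHom.comp_apply, ← Algebra.TensorProduct.map_comp, hi.2, AlgHom.id_comp]
        exact hy x ((Finset.mem_insert.mp hx).resolve_left hxb)
  obtain ⟨k, ⟨hjk⟩, ⟨hik⟩⟩ := hs.dir j i
  let e : (G k) ⊗[R] C₀ :=
    (∑ x : c.support, Algebra.TensorProduct.map hik.1 (AlgHom.id R C₀) (y x) *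
      Algebra.TensorProduct.map hjk.1 (AlgHom.id R C₀) (t x)) - 1
  have he : Algebra.TensorProduct.map (g k) (AlgHom.id R C₀) e = 0 := by
    simp only [e, map_sub, map_sum, map_mul, map_one, ← AlgHom.comp_apply, ← Algebra.TensorProduct.map_comp,
      hik.2, hjk.2, AlgHom.id_comp, hy]
    rw [sub_eq_zero, ← hc', ← Finset.sum_coe_sort c.support]
    exact Finset.sum_congr rfl fun x _ => congrArg (c x.1 * ·) (htφ x)
  obtain ⟨l, hkl, hel⟩ := hs.rTensor_kill C₀ e he
  refine ⟨l, Synt15.isSyntomic_of_ci (Synt15.flat_tensor (hkl.comp hjk).1) inferInstance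
    fun q _ => ?_⟩
  let ψ := Algebra.TensorProduct.map (hkl.comp hjk).1 (AlgHom.id R C₀)
  obtain ⟨x, hx⟩ : ∃ x : c.support, ψ (t x) ∉ q := by
    by_contra hall
    push Not at hall
    have h1 : Algebra.TensorProduct.map hkl.1 (AlgHom.id R C₀) e = 0 := hel
    apply ‹q.IsPrime›.ne_top
    rw [Ideal.eq_top_iff_one]
    simp only [e, map_sub, map_sum, map_mul, map_one, ← AlgHom.comp_apply, ← Algebra.TensorProduct.map_comp,
      AlgHom.id_comp] at h1
    rw [← sub_eq_zero.1 h1]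
    exact Ideal.sum_mem _ fun x _ => Ideal.mul_mem_left _ _ (hall x)
  exact (Synt15.ci_fibLocRing_tensor (hkl.comp hjk).1 q).2 (ht x (q.comap ψ.toRingHom) hx)


end Ring

/-- A complete intersection base change between affine schemes, on rings. -/
theorem ci_snd_iff {W X Y Z : Scheme.{u}} [IsAffine X] [IsAffine Y] [IsAffine Z] {fst : W ⟶ X} {snd : W ⟶ Y}
    {a : X ⟶ Z} {g : Y ⟶ Z} (h : IsPullback fst snd a g) :
    CInt.IsCIMorphism snd ↔
      (letI := a.appTop.hom.toAlgebra; letI := g.appTop.hom.toAlgebra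
        Synt.IsSyntomic Γ(Y, ⊤) (Γ(Y, ⊤) ⊗[Γ(Z, ⊤)] Γ(X, ⊤))) := by
  letI := a.appTop.hom.toAlgebra
  letI := g.appTop.hom.toAlgebra
  letI := snd.appTop.hom.toAlgebra
  letI := fst.appTop.hom.toAlgebra
  letI : Algebra Γ(Z, ⊤) Γ(W, ⊤) := (a.appTop ≫ fst.appTop).hom.toAlgebra
  have hp := (isPushout_appTop_of_isPullback h).flip
  haveI : IsScalarTower Γ(Z, ⊤) Γ(X, ⊤) Γ(W, ⊤) := IsScalarTower.of_algebraMap_eq' rfl
  haveI : IsScalarTower Γ(Z, ⊤) Γ(Y, ⊤) Γ(W, ⊤) :=
    IsScalarTower.of_algebraMap_eq' (congrArg CommRingCat.Hom.hom hp.w).symm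
  haveI : Algebra.IsPushout Γ(Z, ⊤) Γ(Y, ⊤) Γ(X, ⊤) Γ(W, ⊤) :=
    CommRingCat.isPushout_iff_isPushout.mp hp
  have hW : IsAffine W := .of_isPullback h
  have e := (Algebra.IsPushout.equiv Γ(Z, ⊤) Γ(Y, ⊤) Γ(X, ⊤) Γ(W, ⊤))
  rw [ci_iff_appTop]
  exact ⟨fun H => Synt15.isSyntomic_congr e.symm H, fun H => Synt15.isSyntomic_congr e H⟩

theorem affineSpreads_ci : LimSmooth.AffineSpreads.{u} ciProp := by
  intro J _ _ E cE hc haff i A₀ a hA₀ ha A b p sq hb
  have := haff
  letI := a.appTop.hom.toAlgebra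
  letI : ∀ j : Over i, Algebra Γ(E.obj i, ⊤) Γ(E.obj j.left, ⊤) := fun j => (E.map j.hom).appTop.hom.toAlgebra
  letI : Algebra Γ(E.obj i, ⊤) Γ(cE.pt, ⊤) := (cE.π.app i).appTop.hom.toAlgebra
  haveI : IsAffine cE.pt := Scheme.isAffine_of_isLimit cE hc
  haveI : Algebra.FinitePresentation Γ(E.obj i, ⊤) Γ(A₀, ⊤) :=
    (HasRingHomProperty.iff_of_isAffine (P := @LocallyOfFinitePresentation)).mp ha
  obtain ⟨j, hj⟩ := exists_syntomic_stage (LimSmooth.colimSys_appTop hc i) Γ(A₀, ⊤) ((ci_snd_iff sq).mp hb)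
  exact ⟨j.left, j.hom, (ci_snd_iff (IsPullback.of_hasPullback a (E.map j.hom))).mpr hj⟩

end Groth.Agent.LimSynt8
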